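import Mathlib

/-!
# Factorisation of n-quasi-isomorphisms
-/

set_option autoImplicit false
set_option linter.style.haveILetI false

universe v u

open CategoryTheory CategoryTheory.Limits CochainComplex.HomComplex HomologicalComplex

namespace NQisLib

open CochainComplex

variable {C : Type u} [Category.{v} C] [Abelian C] {E F : CochainComplex C ℤ} (φ : E ⟶ F)

theorem δ_snd : δ (-1) 0 (mappingCocone.snd φ) = -Cochain.ofHom (mappingCocone.fst φ ≫ φ) := by
  refine (Cochain.δ_leftShift (mappingCone.snd φ) (-1) (-1) 0 (zero_add _) 1 (by lia)).trans ?_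
  rw [mappingCone.δ_snd]
  ext p
  simp only [mappingCocone.fst]
  simp [Cochain.leftShift_v (n := 1) _ _ _ _ _ p _ (p + -1) (by lia), mappingCocone]
  erw [Cochain.neg_v, Cochain.neg_v, Cochain.comp_zero_cochain_v]
  simp [Cochain.leftShift_v (n := 1) _ _ _ _ _ p _ (p + -1) (by lia)]
  exact (by simp : ∀ {X Y : C} (a : X ⟶ Y), a = - -a) _

theorem δ_inl : δ 0 1 (mappingCocone.inl φ) =
    -(Cochain.ofHom φ).comp (mappingCocone.inr φ).1 (zero_add 1) := by
  refine (Cochain.δ_rightShift (mappingCone.inl φ) (-1) 0 1 (zero_add _) 0 (by lia)).trans ?_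
  rw [mappingCone.δ_inl]
  ext p q hpq
  simp [mappingCocone.inr, mappingCocone, Cochain.rightShift_v _ _ _ _ p q hpq p (add_zero p)]
  erw [Cochain.neg_v, Cochain.comp_v (n₁ := 0) (n₂ := 1) _ _ _ p p q (by lia) hpq]
  simp [Cochain.rightShift_v _ _ _ _ p q hpq p (add_zero p)]
  rfl

theorem mono_map_of_natIso {A B : Type*} [Category* A] [Category* B] {P R : A ⥤ B} (e : P ≅ R)
    {X Y : A} (f : X ⟶ Y) (h : Mono (R.map f)) : Mono (P.map f) := by
  rw [← NatIso.naturality_2 e f]; infer_instance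

theorem epi_map_of_natIso {A B : Type*} [Category* A] [Category* B] {P R : A ⥤ B} (e : P ≅ R)
    {X Y : A} (f : X ⟶ Y) (h : Epi (R.map f)) : Epi (P.map f) := by
  rw [← NatIso.naturality_2 e f]; infer_instance

/-- The map from the cone of the first projection of the cocone. -/
noncomputable def coneDesc : mappingCone (mappingCocone.fst φ) ⟶ F :=
  mappingCone.desc _ (-mappingCocone.snd φ) φ (by rw [δ_neg, δ_snd, neg_neg])

/-- Its homotopy inverse. -/
noncomputable def coneSec : F ⟶ mappingCone (mappingCocone.fst φ) :=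
  Cocycle.homOf (Cocycle.mk
    (-(mappingCocone.inr φ).1.comp (mappingCone.inl (mappingCocone.fst φ)) (show (1 : ℤ) + -1 = 0 by lia))
    1 (zero_add 1) (by
      rw [δ_neg, δ_comp _ _ _ 2 0 1 (zero_add 1) rfl (by lia), mappingCone.δ_inl,
        Cocycle.δ_eq_zero]
      ext p q hpq
      simp [Cochain.comp_v (n₁ := 1) (n₂ := 0) _ _ _ p q q hpq (add_zero q)]))

theorem coneSec_coneDesc : coneSec φ ≫ coneDesc φ = 𝟙 F := by
  ext p
  simp [coneSec, coneDesc, Cochain.comp_v (n₁ := 1) (n₂ := -1) _ _ _ p (p + 1) p rfl (by lia)]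

theorem nonempty_homotopy :
    Nonempty (Homotopy (coneDesc φ ≫ coneSec φ) (𝟙 _)) := by
  let b := (mappingCocone.inl φ).comp (mappingCone.inl (mappingCocone.fst φ)) (zero_add (-1))
  refine ⟨(Cochain.equivHomotopy _ _).symm
    ⟨-((mappingCone.snd (mappingCocone.fst φ)).comp b (zero_add (-1))), ?_⟩⟩
  rw [δ_neg, δ_comp _ b (zero_add (-1)) 1 0 0 (by lia) (zero_add 1) (by lia),
    δ_comp _ _ (zero_add (-1)) 1 0 0 (by lia) (zero_add 1) (by lia), δ_inl,
    mappingCone.δ_inl, mappingCone.δ_snd]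
  ext p
  have hid := mappingCocone.id_X φ (p + 1) p (by lia)
  rw [mappingCone.ext_from_iff _ (p + 1) p rfl]
  constructor
  · simp [b, coneSec, coneDesc,
      Cochain.comp_v (n₁ := 0) (n₂ := -1) _ _ _ (p + 1) (p + 1) p (by lia) (by lia),
      Cochain.comp_v (n₁ := 1) (n₂ := -1) _ _ _ p (p + 1) p rfl (by lia)]
    rw [← eq_sub_iff_add_eq'] at hid
    rw [← Category.assoc, hid]
    simp
    abel
  · simp [b, coneSec, coneDesc,
      Cochain.comp_v (n₁ := 0) (n₂ := -1) _ _ _ (p + 1) (p + 1) p (by lia) (by lia),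
      Cochain.comp_v (n₁ := 1) (n₂ := -1) _ _ _ p (p + 1) p rfl (by lia)]

theorem quasiIso_coneDesc : QuasiIso (coneDesc φ) := by
  obtain ⟨h⟩ := nonempty_homotopy φ
  let e : HomotopyEquiv (mappingCone (mappingCocone.fst φ)) F :=
    { hom := coneDesc φ, inv := coneSec φ, homotopyHomInvId := h,
      homotopyInvHomId := Homotopy.ofEq (coneSec_coneDesc φ) }
  rw [quasiIso_iff]
  intro i
  rw [quasiIsoAt_iff_isIso_homologyMap]
  exact (e.toHomologyIso i).isIso_hom

section Main

attribute [local instance] HasDerivedCategory.standard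

theorem quasiIso_coneMap {L K E : CochainComplex C ℤ} (ι : L ⟶ K) [QuasiIso ι] (f : K ⟶ E) :
    QuasiIso (mappingCone.map (ι ≫ f) f ι (𝟙 E) (Category.comp_id _)) := by
  rw [← DerivedCategory.isIso_Q_map_iff_quasiIso]
  let ψ := DerivedCategory.Q.mapTriangle.map
    (mappingCone.triangleMap (ι ≫ f) f ι (𝟙 E) (Category.comp_id _))
  have h₁ : IsIso ψ.hom₁ :=
    (DerivedCategory.isIso_Q_map_iff_quasiIso C ι).2 inferInstance
  have h₂ : IsIso ψ.hom₂ := inferInstanceAs (IsIso (DerivedCategory.Q.map (𝟙 E)))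
  exact Pretriangulated.isIso₃_of_isIso₁₂ ψ (DerivedCategory.mappingCone_triangle_distinguished _)
    (DerivedCategory.mappingCone_triangle_distinguished _) h₁ h₂

theorem isLE_mappingCocone (n : ℤ) (hiso : ∀ i : ℤ, n < i → IsIso (homologyMap φ i))
    (hepi : Epi (homologyMap φ n)) : (mappingCocone φ).IsLE n := by
  rw [CochainComplex.isLE_iff]
  intro i hi
  rw [HomologicalComplex.exactAt_iff_isZero_homology]
  refine IsZero.of_iso ?_ ((DerivedCategory.homologyFunctorFactors C i).app (mappingCocone φ)).symm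
  let T := DerivedCategory.Q.mapTriangle.obj (mappingCocone.triangle φ)
  have hT : T ∈ Pretriangulated.distinguishedTriangles :=
    DerivedCategory.mappingCocone_triangle_distinguished φ
  haveI : Mono ((DerivedCategory.homologyFunctor C i).map T.mor₂) :=
    mono_map_of_natIso (DerivedCategory.homologyFunctorFactors C i) φ
      (haveI := hiso i hi; inferInstanceAs (Mono (homologyMap φ i)))
  haveI : Epi ((DerivedCategory.homologyFunctor C (i - 1)).map T.mor₂) := by
    refine epi_map_of_natIso (DerivedCategory.homologyFunctorFactors C (i - 1)) φ ?_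
    change Epi (homologyMap φ (i - 1))
    by_cases h : i - 1 = n
    · subst h; exact hepi
    · haveI := hiso (i - 1) (by lia)
      infer_instance
  have h₁ : (DerivedCategory.homologyFunctor C i).map T.mor₁ = 0 :=
    (DerivedCategory.HomologySequence.mono_homologyMap_mor₂_iff T hT i).1 inferInstance
  have h₂ : DerivedCategory.HomologySequence.δ T (i - 1) i (by lia) = 0 :=
    (DerivedCategory.HomologySequence.epi_homologyMap_mor₂_iff T hT (i - 1) i (by lia)).1
      inferInstance
  exact (DerivedCategory.HomologySequence.exact₁ T hT (i - 1) i (by lia)).isZero_X₂ h₂ h₁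

theorem exists_factorisation (n : ℤ) (hiso : ∀ i : ℤ, n < i → IsIso (homologyMap φ i))
    (hepi : Epi (homologyMap φ n)) :
    ∃ (E' : CochainComplex C ℤ) (v : E ⟶ E') (u' : E' ⟶ F), v ≫ u' = φ ∧ QuasiIso u' ∧
      (∀ i : ℤ, Mono (v.f i)) ∧ (∀ i : ℤ, n ≤ i → IsIso (v.f i)) := by
  haveI := isLE_mappingCocone φ n hiso hepi
  let ι := (mappingCocone φ).ιTruncLE n
  let w := ι ≫ mappingCocone.fst φ
  haveI := quasiIso_coneMap ι (mappingCocone.fst φ)
  haveI := quasiIso_coneDesc φ
  refine ⟨mappingCone w, mappingCone.inr w,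
    mappingCone.map w (mappingCocone.fst φ) ι (𝟙 E) (Category.comp_id _) ≫ coneDesc φ, ?_,
    inferInstance, fun i => ?_, fun i hi => ?_⟩
  · simp [mappingCone.map, coneDesc]
  · exact mono_of_mono_fac (h := 𝟙 _) (mappingCone.inr_f_snd_v w i)
  · refine ⟨(mappingCone.snd w).v i i (add_zero i), mappingCone.inr_f_snd_v w i, ?_⟩
    rw [← mappingCone.id_X w i (i + 1) rfl]
    have h0 : IsZero (((mappingCocone φ).truncLE n).X (i + 1)) :=
      CochainComplex.isZero_of_isStrictlyLE _ n (i + 1) (by lia)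
    rw [h0.eq_of_tgt ((mappingCone.fst w).1.v i (i + 1) rfl) 0, zero_comp, zero_add]

end Main

end NQisLib
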